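import Groth.Agent.GeomRedFibLib.GeomApps
import Groth.Agent.GeomRedFibLib.Normal
import Groth.Agent.JacFSLib.GeomReg
import Groth.Agent.TransLib.Popescu
import Groth.Agent.S2674
import Groth.Agent.S2675
import Groth.Agent.S9412

/-! Geometric properties of algebras over fields that are local and stable under field extensions. -/

set_option autoImplicit false
set_option linter.all false
universe u

open TensorProduct

noncomputable section

namespace FibPropLib

/-- A property of Noetherian algebras over fields that is local and insensitive to finitely generated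
extensions of the field. -/
structure FibProp (P : ∀ (k S : Type u) [Field k] [CommRing S] [Algebra k S], Prop) : Prop where
  algEquiv : ∀ {k S T : Type u} [Field k] [CommRing S] [Algebra k S] [CommRing T] [Algebra k T],
    (S ≃ₐ[k] T) → P k S → P k T
  local_iff : ∀ (k S : Type u) [Field k] [CommRing S] [Algebra k S] [IsNoetherianRing S],
    P k S ↔ ∀ (p : Ideal S) [p.IsPrime], P k (Localization.AtPrime p)
  bc_iff : ∀ (k S : Type u) [Field k] [CommRing S] [Algebra k S] [IsNoetherianRing S] (K : Type u) [Field K]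
    [Algebra k K] [Algebra.EssFiniteType k K], P k S ↔ P K (K ⊗[k] S)

variable {P : ∀ (k S : Type u) [Field k] [CommRing S] [Algebra k S], Prop}

/-- Invariance under isomorphisms of pairs. -/
theorem FibProp.congr (hP : FibProp P) {k k' S S' : Type u} [Field k] [Field k'] [CommRing S] [CommRing S']
    [Algebra k S] [Algebra k' S'] [IsNoetherianRing S] (ε : k ≃+* k') (e : S ≃+* S')
    (he : ∀ a, e (algebraMap k S a) = algebraMap k' S' (ε a)) (h : P k S) : P k' S' := by
  letI : Algebra k k' := ε.toRingHom.toAlgebra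
  letI : Algebra k S' := ((algebraMap k' S').comp ε.toRingHom).toAlgebra
  haveI : IsScalarTower k k' S' := IsScalarTower.of_algebraMap_eq' rfl
  haveI : Algebra.FiniteType k k' :=
    Algebra.FiniteType.of_surjective (Algebra.ofId k k') ε.surjective
  have h1 : P k S' := hP.algEquiv (AlgEquiv.ofRingEquiv (f := e) he) h
  haveI : IsNoetherianRing S' := isNoetherianRing_of_ringEquiv S e
  let φ : k' ⊗[k] S' →ₐ[k'] S' :=
    Algebra.TensorProduct.lift (Algebra.ofId k' S') (AlgHom.id k S') fun _ _ => Commute.all _ _
  have hinc : ∀ x : k' ⊗[k] S', ∃ s : S', x = 1 ⊗ₜ s := by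
    intro x
    induction x using TensorProduct.induction_on with
    | zero => exact ⟨0, (TensorProduct.tmul_zero _ _).symm⟩
    | tmul a s =>
      obtain ⟨a, rfl⟩ := ε.surjective a
      refine ⟨a • s, ?_⟩
      rw [TensorProduct.tmul_smul, TensorProduct.smul_tmul', Algebra.smul_def, mul_one]
      rfl
    | add x y hx hy =>
      obtain ⟨s, rfl⟩ := hx
      obtain ⟨t, rfl⟩ := hy
      exact ⟨s + t, (TensorProduct.tmul_add _ _ _).symm⟩
  have hbij : Function.Bijective φ := by
    refine ⟨fun x y hxy => ?_, fun s => ⟨1 ⊗ₜ s, by simp [φ]⟩⟩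
    obtain ⟨s, rfl⟩ := hinc x
    obtain ⟨t, rfl⟩ := hinc y
    simp [φ] at hxy
    rw [hxy]
  exact hP.algEquiv (AlgEquiv.ofBijective φ hbij) ((hP.bc_iff k S' k').1 h1)

section Local

open GeomRedFibLib

variable {Q : ∀ (R : Type u) [CommRing R], Prop}

/-- A property after finite extensions is local on the spectrum. -/
theorem geomP_of_localization (hQ : IsFlatLocalProp Q) (k S : Type u) [Field k] [CommRing S] [Algebra k S]
    (h : ∀ (p : Ideal S) [p.IsPrime], GeomP Q k (Localization.AtPrime p)) : GeomP Q k S := by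
  intro k' _ _ hk q _
  let inc : S →+* k' ⊗[k] S := (Algebra.TensorProduct.includeRight (R := k) (A := k') (B := S)).toRingHom
  let p := q.comap inc
  let Sp := Localization.AtPrime p
  letI : Algebra (k' ⊗[k] S) (k' ⊗[k] Sp) :=
    (Algebra.TensorProduct.map (AlgHom.id k k') (IsScalarTower.toAlgHom k S Sp)).toRingHom.toAlgebra
  haveI : IsScalarTower k' (k' ⊗[k] S) (k' ⊗[k] Sp) :=
    .of_algebraMap_eq fun c ↦ by simp [RingHom.algebraMap_toAlgebra]
  haveI := IsLocalization.tensorProduct_tensorProduct_right k k' p.primeCompl Sp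
    (by ext a; simp [RingHom.algebraMap_toAlgebra])
  let M' := p.primeCompl.map (Algebra.TensorProduct.includeRight (R := k) (A := k') (B := S))
  have hd : Disjoint (M' : Set (k' ⊗[k] S)) (q : Set (k' ⊗[k] S)) := by
    rw [Set.disjoint_left]
    rintro _ ⟨s, hs, rfl⟩ hsq
    exact hs hsq
  let Q' := q.map (algebraMap (k' ⊗[k] S) (k' ⊗[k] Sp))
  haveI : Q'.IsPrime := IsLocalization.isPrime_of_isPrime_disjoint M' _ q ‹_› hd
  have hQ' : Q'.comap (algebraMap (k' ⊗[k] S) (k' ⊗[k] Sp)) = q :=
    IsLocalization.under_map_of_isPrime_disjoint M' (k' ⊗[k] Sp) ‹_› hd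
  haveI : IsLocalization.AtPrime (Localization.AtPrime Q') q := by
    have h := IsLocalization.isLocalization_isLocalization_atPrime_isLocalization M'
      (S := k' ⊗[k] Sp) (Localization.AtPrime Q') Q'
    simpa only [hQ'] using h
  exact hQ.congr _ _ (IsLocalization.algEquiv q.primeCompl (Localization.AtPrime q)
    (Localization.AtPrime Q')).toRingEquiv.symm (h p k' hk Q')

end Local

theorem fibProp_regular : FibProp.{u} (fun k S _ _ _ => CAlg.IsGeometricallyRegular k S) where
  algEquiv e h := TransLib.isGeometricallyRegular_of_algEquiv e h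
  local_iff k S _ _ _ _ := by
    refine ⟨fun h p _ => JacFSLib.isGeometricallyRegular_of_isLocalization p.primeCompl h, fun h => ?_⟩
    exact (GeomRedFibLib.geomP_regular_iff k S).2
      (geomP_of_localization GeomRedFibLib.isGeomProp_regular.toIsFlatLocalProp k S fun p _ =>
        (GeomRedFibLib.geomP_regular_iff k _).1 (h p))
  bc_iff k S _ _ _ _ K _ _ _ := Groth.Agent.S2674.result k S K

theorem fibProp_normal : FibProp.{u} (fun k S _ _ _ => EGA4.IsGeomNormal k S) where
  algEquiv e h k' _ _ hk := GeomRedFibLib.isNormalRing_of_ringEquiv _ _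
    (Algebra.TensorProduct.congr (AlgEquiv.refl : k' ≃ₐ[k'] k') e).toRingEquiv (h k' hk)
  local_iff k S _ _ _ _ := by
    refine ⟨fun h p _ => Groth.Agent.S9412.result k S p.primeCompl (Localization.AtPrime p) h, fun h => ?_⟩
    exact (GeomRedFibLib.geomP_normal_iff k S).2
      ⟨geomP_of_localization (GeomRedFibLib.isGeomProp_rkLoc 1).toIsFlatLocalProp k S fun p _ =>
          ((GeomRedFibLib.geomP_normal_iff k _).1 (h p)).1,
        geomP_of_localization (GeomRedFibLib.isGeomProp_skLoc 2).toIsFlatLocalProp k S fun p _ =>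
          ((GeomRedFibLib.geomP_normal_iff k _).1 (h p)).2⟩
  bc_iff k S _ _ _ _ K _ _ _ := Groth.Agent.S2675.result k S K

end FibPropLib
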