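import Groth.Agent.FibPropLib.Scheme

/-! Regular and normal morphisms in terms of their fibres. -/

set_option autoImplicit false
set_option backward.isDefEq.respectTransparency false
set_option backward.isDefEq.respectTransparency.types false
set_option linter.all false
universe u

open CategoryTheory CategoryTheory.Limits AlgebraicGeometry

namespace FibPropLib

variable {X Y : Scheme.{u}} (f : X ⟶ Y)

theorem noetherian_chart (hN : ∀ y, IsLocallyNoetherian (f.fiber y)) {U : X.Opens} {V : Y.Opens} (hU : IsAffineOpen U)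
    (hV : IsAffineOpen V) (hUV : U ≤ f ⁻¹ᵁ V) :
    letI := (f.appLE V U hUV).hom.toAlgebra
    ∀ (p : Ideal Γ(Y, V)) [p.IsPrime], IsNoetherianRing (p.Fiber Γ(X, U)) := by
  letI := (f.appLE V U hUV).hom.toAlgebra
  intro p hp
  let y := hV.fromSpec ⟨p, hp⟩
  have hy : y ∈ V := by
    show y ∈ (V : Set Y)
    rw [← hV.range_fromSpec]
    exact Set.mem_range_self _
  have hp' : p = (hV.primeIdealOf ⟨y, hy⟩).asIdeal := by
    have h1 : hV.fromSpec (hV.primeIdealOf ⟨y, hy⟩) = hV.fromSpec ⟨p, hp⟩ := hV.fromSpec_primeIdealOf ⟨y, hy⟩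
    exact congrArg PrimeSpectrum.asIdeal (hV.fromSpec.isOpenEmbedding.injective h1).symm
  haveI := hN y
  have key : ∀ (q : Ideal Γ(Y, V)) [q.IsPrime], q = (hV.primeIdealOf ⟨y, hy⟩).asIdeal →
      IsNoetherianRing (q.Fiber Γ(X, U)) := by
    rintro q _ rfl
    exact (fiber_iff_ptP y fibProp_regular hU hV hUV hy).1
  exact key p hp'

theorem regularHom_iff (hN : ∀ y, IsLocallyNoetherian (f.fiber y)) :
    (∀ (U : X.Opens) (V : Y.Opens) (hU : IsAffineOpen U) (hV : IsAffineOpen V) (hUV : U ≤ f ⁻¹ᵁ V),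
        letI := (f.appLE V U hUV).hom.toAlgebra
        CAlg.IsRegularHom Γ(Y, V) Γ(X, U)) ↔
      Flat f ∧ ∀ y z, PtP f y (fun k S _ _ _ => CAlg.IsGeometricallyRegular k S) z :=
  Iff.trans
    ⟨fun h U V hU hV hUV => by
        letI := (f.appLE V U hUV).hom.toAlgebra
        exact ⟨(h U V hU hV hUV).1, fun p _ => ((h U V hU hV hUV).2 p).2⟩,
      fun h U V hU hV hUV => by
        letI := (f.appLE V U hUV).hom.toAlgebra
        exact ⟨(h U V hU hV hUV).1, fun p _ => ⟨noetherian_chart f hN hU hV hUV p, (h U V hU hV hUV).2 p⟩⟩⟩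
    (forall_chart_iff fibProp_regular hN)

theorem normalHom_iff (hN : ∀ y, IsLocallyNoetherian (f.fiber y)) :
    (∀ (U : X.Opens) (V : Y.Opens) (hU : IsAffineOpen U) (hV : IsAffineOpen V) (hUV : U ≤ f ⁻¹ᵁ V),
        letI := (f.appLE V U hUV).hom.toAlgebra
        EGA4.IsNormalHom Γ(Y, V) Γ(X, U)) ↔
      Flat f ∧ ∀ y z, PtP f y (fun k S _ _ _ => EGA4.IsGeomNormal k S) z :=
  forall_chart_iff fibProp_normal hN

end FibPropLib
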