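import Groth.Agent.FibPropLib.Alg
import Groth.Agent.LCILocusLib.Scheme
import Groth.Agent.UnibFlatLib.Basic
import Groth.Agent.S1405

/-! Fibrewise properties of morphisms: affine charts and base change. -/

set_option autoImplicit false
set_option backward.isDefEq.respectTransparency false
set_option backward.isDefEq.respectTransparency.types false
set_option maxHeartbeats 1000000
set_option linter.all false
universe u

open CategoryTheory CategoryTheory.Limits AlgebraicGeometry TensorProduct IsLocalRing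

noncomputable section

namespace FibPropLib

variable {X Y : Scheme.{u}} (f : X ⟶ Y) (y : Y)

/-- Constants on an open of a fibre. -/
abbrev strW (W : (f.fiber y).Opens) : Y.residueField y ⟶ Γ(f.fiber y, W) :=
  (Scheme.ΓSpecIso (Y.residueField y)).inv ≫ (f.fiberToSpecResidueField y).appTop ≫
    (f.fiber y).presheaf.map (homOfLE le_top).op

/-- Constants in a local ring of a fibre. -/
abbrev strZ (z : f.fiber y) : Y.residueField y ⟶ (f.fiber y).presheaf.stalk z :=
  (Scheme.ΓSpecIso (Y.residueField y)).inv ≫ (f.fiberToSpecResidueField y).appTop ≫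
    (f.fiber y).presheaf.germ ⊤ z trivial

variable (P : ∀ (k S : Type u) [Field k] [CommRing S] [Algebra k S], Prop)

/-- The property on an open of a fibre. -/
def FibP (W : (f.fiber y).Opens) : Prop :=
  letI : Algebra ↑(Y.residueField y) ↑Γ(f.fiber y, W) := (strW f y W).hom.toAlgebra
  P ↑(Y.residueField y) ↑Γ(f.fiber y, W)

/-- The property at a point of a fibre. -/
def PtP (z : f.fiber y) : Prop :=
  letI : Algebra ↑(Y.residueField y) ↑((f.fiber y).presheaf.stalk z) := (strZ f y z).hom.toAlgebra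
  P ↑(Y.residueField y) ↑((f.fiber y).presheaf.stalk z)

variable {P} (hP : FibProp P)

include hP in
theorem fibP_iff_ptP [IsLocallyNoetherian (f.fiber y)] (W : (f.fiber y).Opens) (hW : IsAffineOpen W) :
    FibP f y P W ↔ ∀ z ∈ W, PtP f y P z := by
  haveI : IsNoetherianRing Γ(f.fiber y, W) := IsLocallyNoetherian.component_noetherian ⟨W, hW⟩
  letI : Algebra ↑(Y.residueField y) ↑Γ(f.fiber y, W) := (strW f y W).hom.toAlgebra
  have key : ∀ (z : f.fiber y) (hz : z ∈ W) (p : Ideal Γ(f.fiber y, W)) [p.IsPrime],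
      p = (hW.primeIdealOf ⟨z, hz⟩).asIdeal → (PtP f y P z ↔ P (Y.residueField y) (Localization.AtPrime p)) := by
    intro z hz p _ hp
    subst hp
    letI : Algebra ↑Γ(f.fiber y, W) ↑((f.fiber y).presheaf.stalk z) :=
      TopCat.Presheaf.algebra_section_stalk (f.fiber y).presheaf ⟨z, hz⟩
    haveI := hW.isLocalization_stalk ⟨z, hz⟩
    letI : Algebra ↑(Y.residueField y) ↑((f.fiber y).presheaf.stalk z) := (strZ f y z).hom.toAlgebra
    haveI : IsScalarTower ↑(Y.residueField y) ↑Γ(f.fiber y, W) ↑((f.fiber y).presheaf.stalk z) :=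
      IsScalarTower.of_algebraMap_eq fun a => (TopCat.Presheaf.germ_res_apply (f.fiber y).presheaf _ z hz _).symm
    let e := (IsLocalization.algEquiv (hW.primeIdealOf ⟨z, hz⟩).asIdeal.primeCompl
      (Localization.AtPrime (hW.primeIdealOf ⟨z, hz⟩).asIdeal) ((f.fiber y).presheaf.stalk z)).restrictScalars
        ↑(Y.residueField y)
    exact ⟨fun h => hP.algEquiv e.symm h, fun h => hP.algEquiv e h⟩
  refine Iff.trans (hP.local_iff _ _) ⟨fun h z hz => (key z hz _ rfl).2 (h _), fun h p hp => ?_⟩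
  let z := hW.fromSpec ⟨p, hp⟩
  have hz : z ∈ W := by
    show z ∈ (W : Set (f.fiber y))
    rw [← hW.range_fromSpec]
    exact Set.mem_range_self _
  refine (key z hz p ?_).1 (h z hz)
  have h1 : hW.fromSpec (hW.primeIdealOf ⟨z, hz⟩) = hW.fromSpec ⟨p, hp⟩ := hW.fromSpec_primeIdealOf ⟨z, hz⟩
  exact congrArg PrimeSpectrum.asIdeal (hW.fromSpec.isOpenEmbedding.injective h1).symm

/-- The trace of an affine open on a fibre. -/
abbrev trace (U : X.Opens) : (f.fiber y).Opens := f.fiberι y ⁻¹ᵁ U ⊓ f.fiberToSpecResidueField y ⁻¹ᵁ ⊤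

theorem appLE_residue {S : Scheme.{u}} (y : S) {O : S.Opens} (hy : y ∈ O) (h0 : ⊤ ≤ S.fromSpecResidueField y ⁻¹ᵁ O) :
    (S.fromSpecResidueField y).appLE O ⊤ h0 =
      S.presheaf.germ O y hy ≫ S.residue y ≫ (Scheme.ΓSpecIso (S.residueField y)).inv := by
  have h1 : (⊤ : (Spec (S.presheaf.stalk y)).Opens) ≤ (S.fromSpecStalk y) ⁻¹ᵁ O := by
    intro z _
    have hz : (S.fromSpecStalk y) z ⤳ y := by
      have : (S.fromSpecStalk y) z ∈ Set.range (S.fromSpecStalk y) := ⟨z, rfl⟩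
      rwa [Scheme.range_fromSpecStalk] at this
    exact hz.mem_open O.2 hy
  rw [show (S.fromSpecResidueField y).appLE O ⊤ h0 = (Spec.map (S.residue y) ≫ S.fromSpecStalk y).appLE O ⊤ h0 from rfl,
    ← Scheme.Hom.appLE_comp_appLE (Spec.map (S.residue y)) (S.fromSpecStalk y) O ⊤ ⊤ h1 (fun _ _ => trivial)]
  rw [Scheme.Hom.appLE, Scheme.fromSpecStalk_app hy, Category.assoc, Category.assoc, Category.assoc,
    ← Functor.map_comp_assoc]
  have e1 : ∀ (i : (Opposite.op (⊤ : (Spec (S.presheaf.stalk y)).Opens)) ⟶ Opposite.op ⊤),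
      (Spec (S.presheaf.stalk y)).presheaf.map i = 𝟙 _ := fun i => by
    rw [Subsingleton.elim i (𝟙 _)]; exact CategoryTheory.Functor.map_id _ _
  rw [e1, Category.id_comp]
  have e2 : (Spec.map (S.residue y)).appLE ⊤ ⊤ (fun _ _ => trivial) = (Spec.map (S.residue y)).appTop := by
    rw [Scheme.Hom.appLE, show (homOfLE (fun _ _ => trivial : (⊤ : (Spec (S.residueField y)).Opens) ≤
      (Spec.map (S.residue y)) ⁻¹ᵁ ⊤)).op = 𝟙 _ from Subsingleton.elim _ _]
    erw [CategoryTheory.Functor.map_id, Category.comp_id]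
  rw [e2, ← Scheme.ΓSpecIso_inv_naturality]

/-- The ring of a fibre over an affine open. -/
theorem exists_fibre_chart {U : X.Opens} {V : Y.Opens} (hU : IsAffineOpen U) (hV : IsAffineOpen V)
    (hUV : U ≤ f ⁻¹ᵁ V) (hy : y ∈ V) :
    letI := (f.appLE V U hUV).hom.toAlgebra
    IsAffineOpen (trace f y U) ∧
      ∃ (ε : (hV.primeIdealOf ⟨y, hy⟩).asIdeal.ResidueField ≃+* Y.residueField y)
        (e : (hV.primeIdealOf ⟨y, hy⟩).asIdeal.Fiber Γ(X, U) ≃+* Γ(f.fiber y, trace f y U)),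
        ∀ c, e (algebraMap _ _ c) = (strW f y (trace f y U)).hom (ε c) := by
  letI := (f.appLE V U hUV).hom.toAlgebra
  let p := (hV.primeIdealOf ⟨y, hy⟩).asIdeal
  have h0 : (⊤ : (Spec (Y.residueField y)).Opens) ≤ Y.fromSpecResidueField y ⁻¹ᵁ V := fun s _ => by
    show Y.fromSpecResidueField y s ∈ V
    rw [Scheme.fromSpecResidueField_apply]
    exact hy
  obtain ⟨hO, hpo⟩ := LCILocusLib.pullback_chart (IsPullback.of_hasPullback f (Y.fromSpecResidueField y))
    hV (isAffineOpen_top _) h0 hU hUV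
  refine ⟨hO, ?_⟩
  rw [appLE_residue y hy h0] at hpo
  let ρ : Γ(Y, V) ⟶ Y.residueField y := Y.presheaf.germ V y hy ≫ Y.residue y
  have hpo' : IsPushout (f.appLE V U hUV) ρ
      ((f.fiberι y).appLE U (trace f y U) inf_le_left) (strW f y (trace f y U)) := by
    refine hpo.of_iso (Iso.refl _) (Iso.refl _) (Scheme.ΓSpecIso (Y.residueField y)) (Iso.refl _) ?_ ?_ ?_ ?_
    · simp
    · simp [ρ]
    · simp; rfl
    · simp [strW, Scheme.Hom.appLE]; rfl
  letI : Algebra Γ(Y, V) (Y.residueField y) := ρ.hom.toAlgebra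
  letI : Algebra Γ(X, U) Γ(f.fiber y, trace f y U) := ((f.fiberι y).appLE U (trace f y U) inf_le_left).hom.toAlgebra
  letI : Algebra (Y.residueField y) Γ(f.fiber y, trace f y U) := (strW f y (trace f y U)).hom.toAlgebra
  letI : Algebra Γ(Y, V) Γ(f.fiber y, trace f y U) :=
    ((strW f y (trace f y U)).hom.comp ρ.hom).toAlgebra
  haveI : IsScalarTower Γ(Y, V) (Y.residueField y) Γ(f.fiber y, trace f y U) := IsScalarTower.of_algebraMap_eq' rfl
  haveI : IsScalarTower Γ(Y, V) Γ(X, U) Γ(f.fiber y, trace f y U) := IsScalarTower.of_algebraMap_eq fun a =>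
    (RingHom.congr_fun (congrArg CommRingCat.Hom.hom hpo'.w) a).symm
  haveI : Algebra.IsPushout Γ(Y, V) (Y.residueField y) Γ(X, U) Γ(f.fiber y, trace f y U) :=
    Algebra.IsPushout.symm (CommRingCat.isPushout_iff_isPushout.mp hpo')
  letI : Algebra Γ(Y, V) (Y.presheaf.stalk y) := (Y.presheaf.germ V y hy).hom.toAlgebra
  haveI : IsLocalization p.primeCompl (Y.presheaf.stalk y) := hV.isLocalization_stalk ⟨y, hy⟩
  let e0 := IsLocalization.algEquiv p.primeCompl (Localization.AtPrime p) (Y.presheaf.stalk y)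
  let ε : p.ResidueField ≃+* Y.residueField y := IsLocalRing.ResidueField.mapEquiv e0.toRingEquiv
  have hε : ∀ a : Γ(Y, V), ε (algebraMap Γ(Y, V) p.ResidueField a) = algebraMap Γ(Y, V) (Y.residueField y) a := by
    intro a
    show residue _ (e0 (algebraMap Γ(Y, V) (Localization.AtPrime p) a)) = _
    rw [e0.commutes]
    rfl
  let εA : p.ResidueField ≃ₐ[Γ(Y, V)] Y.residueField y := AlgEquiv.ofRingEquiv (f := ε) hε
  let e : p.Fiber Γ(X, U) ≃ₐ[Γ(Y, V)] Γ(f.fiber y, trace f y U) :=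
    (Algebra.TensorProduct.congr εA (AlgEquiv.refl : Γ(X, U) ≃ₐ[Γ(Y, V)] Γ(X, U))).trans
      ((Algebra.IsPushout.equiv Γ(Y, V) (Y.residueField y) Γ(X, U) Γ(f.fiber y, trace f y U)).restrictScalars Γ(Y, V))
  refine ⟨ε, e.toRingEquiv, fun c => ?_⟩
  show (Algebra.IsPushout.equiv Γ(Y, V) (Y.residueField y) Γ(X, U) Γ(f.fiber y, trace f y U))
    (Algebra.TensorProduct.congr εA (AlgEquiv.refl : Γ(X, U) ≃ₐ[Γ(Y, V)] Γ(X, U)) (c ⊗ₜ 1)) = _
  rw [Algebra.TensorProduct.congr_apply, Algebra.TensorProduct.map_tmul, map_one]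
  exact (Algebra.IsPushout.equiv Γ(Y, V) (Y.residueField y) Γ(X, U) Γ(f.fiber y, trace f y U)).commutes (ε c)

variable {f}

include hP in
theorem fiber_iff_ptP {U : X.Opens} {V : Y.Opens} (hU : IsAffineOpen U) (hV : IsAffineOpen V)
    (hUV : U ≤ f ⁻¹ᵁ V) (hy : y ∈ V) [IsLocallyNoetherian (f.fiber y)] :
    letI := (f.appLE V U hUV).hom.toAlgebra
    IsNoetherianRing ((hV.primeIdealOf ⟨y, hy⟩).asIdeal.Fiber Γ(X, U)) ∧
      (P (hV.primeIdealOf ⟨y, hy⟩).asIdeal.ResidueField ((hV.primeIdealOf ⟨y, hy⟩).asIdeal.Fiber Γ(X, U)) ↔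
        ∀ z, f.fiberι y z ∈ U → PtP f y P z) := by
  letI := (f.appLE V U hUV).hom.toAlgebra
  obtain ⟨hO, ε, e, he⟩ := exists_fibre_chart f y hU hV hUV hy
  haveI : IsNoetherianRing Γ(f.fiber y, trace f y U) := IsLocallyNoetherian.component_noetherian ⟨_, hO⟩
  haveI hn : IsNoetherianRing ((hV.primeIdealOf ⟨y, hy⟩).asIdeal.Fiber Γ(X, U)) := isNoetherianRing_of_ringEquiv _ e.symm
  refine ⟨hn, ?_⟩
  letI : Algebra (Y.residueField y) Γ(f.fiber y, trace f y U) := (strW f y (trace f y U)).hom.toAlgebra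
  have h := fibP_iff_ptP f y hP (trace f y U) hO
  refine ⟨fun h1 z hz => h.1 (hP.congr ε e he h1) z ⟨hz, trivial⟩, fun h1 => ?_⟩
  refine hP.congr ε.symm e.symm (fun c => ?_) (h.2 fun z hz => h1 z hz.1)
  apply e.injective
  rw [he, RingEquiv.apply_symm_apply, RingEquiv.apply_symm_apply]
  rfl

include hP in
/-- The fibre rings over all affine charts. -/
theorem forall_chart_iff (hN : ∀ y, IsLocallyNoetherian (f.fiber y)) :
    (∀ (U : X.Opens) (V : Y.Opens) (hU : IsAffineOpen U) (hV : IsAffineOpen V) (hUV : U ≤ f ⁻¹ᵁ V),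
        letI := (f.appLE V U hUV).hom.toAlgebra
        Module.Flat Γ(Y, V) Γ(X, U) ∧
          ∀ (p : Ideal Γ(Y, V)) [p.IsPrime], P p.ResidueField (p.Fiber Γ(X, U))) ↔
      Flat f ∧ ∀ y z, PtP f y P z := by
  constructor
  · intro h
    refine ⟨(HasRingHomProperty.iff_appLE (P := @Flat)).2 fun V U e => ?_, fun y z => ?_⟩
    · exact (h U V U.2 V.2 e).1
    · haveI := hN y
      obtain ⟨V, hV, hyV, -⟩ := exists_isAffineOpen_mem_and_subset (x := y) (U := ⊤) trivial
      obtain ⟨U, hU, hzU, hUV⟩ := exists_isAffineOpen_mem_and_subset (x := f.fiberι y z) (U := f ⁻¹ᵁ V) (by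
        show f (f.fiberι y z) ∈ V
        have h1 : f.fiberι y z ∈ Set.range (f.fiberι y) := Set.mem_range_self z
        rw [f.range_fiberι] at h1
        rw [show f (f.fiberι y z) = y from h1]
        exact hyV)
      exact (fiber_iff_ptP y hP hU hV hUV hyV).2.1 ((h U V hU hV hUV).2 _) z hzU
  · rintro ⟨hfl, h⟩ U V hU hV hUV
    letI := (f.appLE V U hUV).hom.toAlgebra
    refine ⟨RingHom.flat_algebraMap_iff.1
      ((HasRingHomProperty.iff_appLE (P := @Flat)).1 hfl ⟨V, hV⟩ ⟨U, hU⟩ hUV), fun p hp => ?_⟩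
    let y := hV.fromSpec ⟨p, hp⟩
    have hy : y ∈ V := by
      show y ∈ (V : Set Y)
      rw [← hV.range_fromSpec]
      exact Set.mem_range_self _
    have hp' : p = (hV.primeIdealOf ⟨y, hy⟩).asIdeal := by
      have h1 : hV.fromSpec (hV.primeIdealOf ⟨y, hy⟩) = hV.fromSpec ⟨p, hp⟩ := hV.fromSpec_primeIdealOf ⟨y, hy⟩
      exact congrArg PrimeSpectrum.asIdeal (hV.fromSpec.isOpenEmbedding.injective h1).symm
    haveI := hN y
    have key : ∀ (q : Ideal Γ(Y, V)) [q.IsPrime], q = (hV.primeIdealOf ⟨y, hy⟩).asIdeal →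
        P q.ResidueField (q.Fiber Γ(X, U)) := by
      rintro q _ rfl
      exact (fiber_iff_ptP y hP hU hV hUV hy).2.2 fun z _ => h y z
    exact key p hp'

variable {X' Y' : Scheme.{u}} {f' : X' ⟶ Y'} {g' : X' ⟶ X} {g : Y' ⟶ Y}

include hP in
/-- The fibres after a base change of finite type. -/
theorem ptP_bc_iff [LocallyOfFiniteType g] (hc : IsPullback g' f' f g) (y' : Y')
    [IsLocallyNoetherian (f.fiber (g y'))] [IsLocallyNoetherian (f'.fiber y')] :
    (∀ z, PtP f' y' P z) ↔ ∀ z, PtP f (g y') P z := by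
  obtain ⟨m, sq⟩ : ∃ m : f'.fiber y' ⟶ f.fiber (g y'), IsPullback m (f'.fiberToSpecResidueField y')
      (f.fiberToSpecResidueField (g y')) (Spec.map (g.residueFieldMap y')) :=
    ⟨_, isPullback_fiberToSpecResidueField_of_isPullback hc y'⟩
  let k := Y.residueField (g y')
  let K := Y'.residueField y'
  letI : Algebra k K := (g.residueFieldMap y').hom.toAlgebra
  haveI : Algebra.EssFiniteType k K := Groth.Agent.S1405.essFiniteType_residueFieldMap g y'
  have step : ∀ (W : (f.fiber (g y')).Opens), IsAffineOpen W →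
      ((∀ z, m z ∈ W → PtP f' y' P z) ↔ ∀ z ∈ W, PtP f (g y') P z) := by
    intro W hW
    let O : (f'.fiber y').Opens := m ⁻¹ᵁ W ⊓ f'.fiberToSpecResidueField y' ⁻¹ᵁ ⊤
    obtain ⟨hO, hpo⟩ := LCILocusLib.pullback_chart sq (isAffineOpen_top (Spec k)) (isAffineOpen_top (Spec K))
      (fun _ _ => trivial) hW le_top
    have hpo' : IsPushout (strW f (g y') W) (g.residueFieldMap y') (m.appLE W O inf_le_left) (strW f' y' O) := by
      refine hpo.of_iso (Scheme.ΓSpecIso k) (Iso.refl _) (Scheme.ΓSpecIso K) (Iso.refl _) ?_ ?_ ?_ ?_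
      · simp [strW, Scheme.Hom.appLE, k]
      · simp [Scheme.Hom.appLE, Subsingleton.elim (homOfLE _) (𝟙 _)]
        exact Scheme.ΓSpecIso_naturality (g.residueFieldMap y')
      · simp; rfl
      · simp [strW, Scheme.Hom.appLE, K]
    letI : Algebra k Γ(f.fiber (g y'), W) := (strW f (g y') W).hom.toAlgebra
    letI : Algebra K Γ(f'.fiber y', O) := (strW f' y' O).hom.toAlgebra
    letI : Algebra Γ(f.fiber (g y'), W) Γ(f'.fiber y', O) := (m.appLE W O inf_le_left).hom.toAlgebra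
    letI : Algebra k Γ(f'.fiber y', O) := ((strW f' y' O).hom.comp (g.residueFieldMap y').hom).toAlgebra
    haveI : IsScalarTower k K Γ(f'.fiber y', O) := IsScalarTower.of_algebraMap_eq' rfl
    haveI : IsScalarTower k Γ(f.fiber (g y'), W) Γ(f'.fiber y', O) := IsScalarTower.of_algebraMap_eq fun a =>
      (RingHom.congr_fun (congrArg CommRingCat.Hom.hom hpo'.w) a).symm
    haveI : Algebra.IsPushout k K Γ(f.fiber (g y'), W) Γ(f'.fiber y', O) :=
      Algebra.IsPushout.symm (CommRingCat.isPushout_iff_isPushout.mp hpo')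
    let e := Algebra.IsPushout.equiv k K Γ(f.fiber (g y'), W) Γ(f'.fiber y', O)
    haveI : IsNoetherianRing Γ(f.fiber (g y'), W) := IsLocallyNoetherian.component_noetherian ⟨W, hW⟩
    have h1 := fibP_iff_ptP f (g y') hP W hW
    have h2 := fibP_iff_ptP f' y' hP O hO
    have h3 : P k Γ(f.fiber (g y'), W) ↔ P K (K ⊗[k] Γ(f.fiber (g y'), W)) := hP.bc_iff _ _ _
    exact ⟨fun h => h1.1 (h3.2 (hP.algEquiv e.symm (h2.2 fun z hz => h z hz.1))),
      fun h z hz => h2.1 (hP.algEquiv e (h3.1 (h1.2 h))) z ⟨hz, trivial⟩⟩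
  constructor
  · intro h z
    obtain ⟨W, hW, hzW, -⟩ := exists_isAffineOpen_mem_and_subset (x := z) (U := ⊤) trivial
    exact (step W hW).1 (fun w _ => h w) z hzW
  · intro h z
    obtain ⟨W, hW, hzW, -⟩ := exists_isAffineOpen_mem_and_subset (x := m z) (U := ⊤) trivial
    exact (step W hW).2 (fun w _ => h w) z hzW

include hP in
/-- Descent and ascent along a fppf base change. -/
theorem forall_iff_bc [Flat g] [LocallyOfFinitePresentation g] [Surjective g] (hc : IsPullback g' f' f g)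
    (hN : ∀ y, IsLocallyNoetherian (f.fiber y)) (hN' : ∀ y', IsLocallyNoetherian (f'.fiber y')) :
    (Flat f ∧ ∀ y z, PtP f y P z) ↔ (Flat f' ∧ ∀ y' z, PtP f' y' P z) := by
  constructor
  · rintro ⟨hfl, h⟩
    refine ⟨MorphismProperty.of_isPullback hc hfl, fun y' => ?_⟩
    haveI := hN (g y')
    haveI := hN' y'
    exact (ptP_bc_iff hP hc y').2 (h (g y'))
  · rintro ⟨hfl, h⟩
    refine ⟨(Flat.iff_flat_stalkMap f).2 fun x => ?_, fun y => ?_⟩
    · haveI : Surjective g' := MorphismProperty.of_isPullback hc.flip ‹_›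
      obtain ⟨x', rfl⟩ := g'.surjective x
      exact (UnibFlatLib.flatAt_iff f _).1
        (UnibFlatLib.flatAt_descend hc x' ((UnibFlatLib.flatAt_iff f' x').2 (Flat.stalkMap f' x')))
    · obtain ⟨y', rfl⟩ := g.surjective y
      haveI := hN (g y')
      haveI := hN' y'
      exact (ptP_bc_iff hP hc y').1 (h y')

end FibPropLib
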